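import Cfsg.Agent.CTwoTab.Base
import Cfsg.Prelude.Def_EvenType
import Cfsg.Agent.Lib.Cores

/-!
# Restricted even type: tools (helper81)

* `atX_of_charTwo` : in a group of characteristic 2 type the involutions satisfy `CTwoTab.At`, and there are no components;
* `restricted_of_noComp`, `restricted_of_charTwo` : restricted even type from the absence of components;
* `rank_of_inj`, `rank_of_gens3`, `rank_of_gens4` : lower bounds for the 2-rank.
-/

set_option autoImplicit false

namespace Cfsg.Agent.ResEven.Base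

open Subgroup Cfsg Cfsg.Agent.CTwoTab

universe u v

section

variable {G : Type u} [Group G] [Finite G]

omit [Finite G] in
theorem normalizer_zpowers_eq {t : G} (ht : orderOf t = 2) :
    normalizer ((zpowers t : Subgroup G) : Set G) = centralizer ({t} : Set G) := by
  have ht2 : t * t = 1 := by rw [← pow_two, ← ht, pow_orderOf_eq_one]
  have hmem : ∀ x, x ∈ zpowers t → x = 1 ∨ x = t := by
    intro x hx
    obtain ⟨k, hk⟩ := mem_zpowers_iff.1 hx
    rw [← hk]
    rcases Int.even_or_odd k with ⟨m, hm⟩ | ⟨m, hm⟩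
    · left
      rw [hm, ← two_mul, zpow_mul, zpow_ofNat, pow_two, ht2, one_zpow]
    · right
      rw [hm, zpow_add, zpow_mul, zpow_ofNat, pow_two, ht2, one_zpow, one_mul, zpow_one]
  ext g
  rw [mem_centralizer_singleton_iff]
  constructor
  · intro hg
    have h1 : g * t * g⁻¹ ∈ zpowers t := (mem_normalizer_iff.1 hg t).1 (mem_zpowers t)
    rcases hmem _ h1 with h2 | h2
    · rw [conj_eq_one_iff] at h2
      rw [h2, orderOf_one] at ht
      omega
    · exact mul_inv_eq_iff_eq_mul.1 h2
  · intro hg
    rw [mem_normalizer_iff]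
    intro x
    have hc : g * t * g⁻¹ = t := mul_inv_eq_iff_eq_mul.2 hg
    constructor
    · intro hx
      rcases hmem x hx with rfl | rfl
      · rw [mul_one, mul_inv_cancel]; exact one_mem _
      · rw [hc]; exact mem_zpowers _
    · intro hx
      rcases hmem _ hx with h2 | h2
      · rw [conj_eq_one_iff] at h2
        rw [h2]; exact one_mem _
      · have : x = t := by
          have h3 : g * x * g⁻¹ = g * t * g⁻¹ := h2.trans hc.symm
          exact mul_left_cancel (mul_right_cancel h3)
        rw [this]; exact mem_zpowers _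

/-- `O₂(C(t))` in a group of characteristic 2 type -/
theorem charTwo_data (h : IsCharacteristicTwoType G) {t : G} (ht : orderOf t = 2) :
    ∃ R : Subgroup G, R ≤ centralizer ({t} : Set G) ∧ (∀ c ∈ centralizer ({t} : Set G), ∀ r ∈ R, c * r * c⁻¹ ∈ R) ∧
      IsPGroup 2 ↥R ∧ ∀ c ∈ centralizer ({t} : Set G), (∀ r ∈ R, c * r = r * c) → c ∈ R := by
  have h2 : IsPGroup 2 ↥(zpowers t) := IsPGroup.of_card (n := 1) (by rw [Nat.card_zpowers, ht, pow_one])
  have hne : zpowers t ≠ ⊥ := by
    rw [Ne, zpowers_eq_bot]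
    rintro rfl
    rw [orderOf_one] at ht
    omega
  have h3 := h.2 _ h2 hne
  rw [normalizer_zpowers_eq ht] at h3
  have hn : (pCore 2 ↥(centralizer ({t} : Set G))).Normal := Lib.Cores.pCore_normal 2
  refine ⟨(pCore 2 ↥(centralizer ({t} : Set G))).map (centralizer ({t} : Set G)).subtype, map_subtype_le _, ?_, ?_, ?_⟩
  · rintro c hc _ ⟨r, hr, rfl⟩
    exact ⟨⟨c, hc⟩ * r * ⟨c, hc⟩⁻¹, hn.conj_mem r hr ⟨c, hc⟩, rfl⟩
  · exact (Lib.Cores.pCore_isPGroup 2).map _
  · intro c hc hcr
    refine ⟨⟨c, hc⟩, h3 (mem_centralizer_iff.2 fun r hr => ?_), rfl⟩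
    exact Subtype.ext (hcr r ⟨r, hr, rfl⟩).symm

theorem noComp_of_charTwo (h : IsCharacteristicTwoType G) {t : G} (ht : orderOf t = 2) (K : Subgroup G) :
    ¬ IsComponentOf K (centralizer ({t} : Set G)) := by
  have : Fact (Nat.Prime 2) := ⟨Nat.prime_two⟩
  obtain ⟨R, h1, h2, h3, h4⟩ := charTwo_data h ht
  exact no_comp_of_pGroup h1 h2 h3 h4 K

theorem at_of_charTwo (h : IsCharacteristicTwoType G) {t : G} (ht : orderOf t = 2) : At G t := by
  obtain ⟨R, h1, h2, h3, h4⟩ := charTwo_data h ht
  exact At.of_pGroup h1 h2 h3 h4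

theorem compC2_of_charTwo (h : IsCharacteristicTwoType G) : CompC2 G :=
  ⟨fun _ ht => (at_of_charTwo h ht).bal, fun _ ht => (at_of_charTwo h ht).comp⟩

/-- no component in the involution centralizers: restricted even type -/
theorem restricted_of_noComp (hb : ∀ t : G, orderOf t = 2 → centralizerPPrimeCore 2 t = ⊥)
    (hc : ∀ t : G, orderOf t = 2 → ∀ K : Subgroup G, ¬ IsComponentOf K (centralizer ({t} : Set G)))
    (h3 : PRankAtLeast 2 3 G) : IsOfRestrictedEvenType G := by
  have hC : CompC2 G := ⟨hb, fun t ht K hK => absurd hK (hc t ht K)⟩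
  refine ⟨⟨hC.lpAll, hb, h3⟩, ?_, ?_, ?_⟩
  · intro x K hx hK
    exact absurd hK (hc x hx K)
  · intro x K hT
    exact absurd hT.2.1 (hc x hT.1 K)
  · intro x y K _ _ hT
    exact absurd hT.2.1 (hc x hT.1 K)

theorem restricted_of_charTwo (h : IsCharacteristicTwoType G) (h3 : PRankAtLeast 2 3 G) : IsOfRestrictedEvenType G :=
  restricted_of_noComp (fun _ ht => (at_of_charTwo h ht).bal) (fun _ ht => noComp_of_charTwo h ht) h3

end

/-! ### lower bounds for the rank -/

theorem rank_of_inj {p k : ℕ} {H : Type u} {G : Type v} [Group H] [Group G] (f : H →* G) (hf : Function.Injective f)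
    (h : PRankAtLeast p k H) : PRankAtLeast p k G := by
  obtain ⟨A, hA, hp, hc⟩ := h
  refine ⟨A.map f, ?_, ?_, ?_⟩
  · refine ⟨⟨?_⟩⟩
    rintro ⟨_, a, ha, rfl⟩ ⟨_, b, hb, rfl⟩
    apply Subtype.ext
    show f a * f b = f b * f a
    rw [← map_mul, ← map_mul]
    congr 1
    exact congrArg Subtype.val (hA.is_comm.comm (⟨a, ha⟩ : A) ⟨b, hb⟩)
  · rintro _ ⟨a, ha, rfl⟩
    rw [← map_pow, hp a ha, map_one]
  · rwa [Nat.card_congr (A.equivMapOfInjective f hf).symm.toEquiv]

theorem rank_congr {p k : ℕ} {H : Type u} {G : Type v} [Group H] [Group G] (e : H ≃* G)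
    (h : PRankAtLeast p k H) : PRankAtLeast p k G := rank_of_inj e.toMonoidHom e.injective h

/-- the elements `∏ gᵢ^{cᵢ}` of a family of commuting involutions form an elementary abelian group; lower bound by
injectivity -/
theorem rank_of_fun {G : Type v} [Group G] [Finite G] {n : ℕ} (g : Fin n → G) (hc : ∀ i j, g i * g j = g j * g i)
    (h2 : ∀ i, g i * g i = 1)
    (hinj : ∀ c : Fin n → Bool, (List.ofFn fun i => if c i then g i else 1).prod = 1 → c = fun _ => false) :
    PRankAtLeast 2 n G := by
  classical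
  let P : (Fin n → Bool) → G := fun c => (List.ofFn fun i => if c i then g i else 1).prod
  have hcomm : ∀ x ∈ Set.range g, ∀ y ∈ Set.range g, x * y = y * x := by
    rintro _ ⟨i, rfl⟩ _ ⟨j, rfl⟩
    exact hc i j
  let A : Subgroup G := closure (Set.range g)
  have hA : ∀ x ∈ A, ∀ y ∈ A, x * y = y * x := by
    intro x hx y hy
    have : IsMulCommutative ↥A := Subgroup.isMulCommutative_closure hcomm
    exact congrArg Subtype.val (this.is_comm.comm (⟨x, hx⟩ : A) ⟨y, hy⟩)
  have hsq : ∀ x ∈ A, x ^ 2 = 1 := by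
    intro x hx
    induction hx using Subgroup.closure_induction with
    | mem x hx =>
      obtain ⟨i, rfl⟩ := hx
      rw [pow_two, h2]
    | one => exact one_pow 2
    | mul x y hx hy hx' hy' =>
      have h1 := hA x hx y hy
      calc (x * y) ^ 2 = x * (y * x) * y := by rw [pow_two]; group
        _ = x * (x * y) * y := by rw [h1]
        _ = x ^ 2 * y ^ 2 := by rw [pow_two, pow_two]; group
        _ = 1 := by rw [hx', hy', one_mul]
    | inv x hx hx' => rw [inv_pow, hx', inv_one]
  have hP : ∀ c, P c ∈ A := by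
    intro c
    refine Subgroup.list_prod_mem _ fun x hx => ?_
    rw [List.mem_ofFn] at hx
    obtain ⟨i, rfl⟩ := hx
    split
    · exact subset_closure ⟨i, rfl⟩
    · exact one_mem _
  have hmul : ∀ c d, P c * P d = P (fun i => xor (c i) (d i)) := by
    intro c d
    have key : ∀ (m : ℕ) (a b : Fin m → G), (∀ i, a i ∈ A) → (∀ i, b i ∈ A) →
        (List.ofFn a).prod * (List.ofFn b).prod = (List.ofFn fun i => a i * b i).prod := by
      intro m
      induction m with
      | zero => intro a b _ _; simp
      | succ m ih =>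
        intro a b ha hb
        rw [List.ofFn_succ, List.ofFn_succ, List.ofFn_succ, List.prod_cons, List.prod_cons, List.prod_cons,
          ← ih (fun i => a i.succ) (fun i => b i.succ) (fun i => ha _) (fun i => hb _)]
        have h1 : (List.ofFn fun i => a (Fin.succ i)).prod ∈ A := by
          refine Subgroup.list_prod_mem _ fun x hx => ?_
          rw [List.mem_ofFn] at hx
          obtain ⟨i, rfl⟩ := hx
          exact ha _
        have h2 := hA _ h1 _ (hb 0)
        calc a 0 * (List.ofFn fun i => a (Fin.succ i)).prod * (b 0 * (List.ofFn fun i => b (Fin.succ i)).prod)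
            = a 0 * ((List.ofFn fun i => a (Fin.succ i)).prod * b 0) * (List.ofFn fun i => b (Fin.succ i)).prod := by
              group
          _ = a 0 * (b 0 * (List.ofFn fun i => a (Fin.succ i)).prod) * (List.ofFn fun i => b (Fin.succ i)).prod := by
              rw [h2]
          _ = _ := by group
    have hm : ∀ (c : Fin n → Bool) i, (if c i then g i else 1) ∈ A := by
      intro c i
      split
      · exact subset_closure ⟨i, rfl⟩
      · exact one_mem _
    show (List.ofFn fun i => if c i then g i else 1).prod * (List.ofFn fun i => if d i then g i else 1).prod = _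
    rw [key n _ _ (hm c) (hm d)]
    congr 2
    funext i
    cases hci : c i <;> cases hdi : d i <;> simp [hci, hdi, h2]
  have hPinj : Function.Injective P := by
    intro c d hcd
    have h1 : P c * P d = 1 := by
      rw [hcd, ← pow_two, hsq _ (hP d)]
    rw [hmul] at h1
    have h2 := hinj _ h1
    funext i
    have h3 := congrFun h2 i
    cases hci : c i <;> cases hdi : d i <;> simp_all
  refine ⟨A, ⟨⟨fun a b => Subtype.ext (hA a a.2 b b.2)⟩⟩, hsq, ?_⟩
  have h1 : Nat.card (Fin n → Bool) ≤ Nat.card A :=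
    Nat.card_le_card_of_injective (fun c => (⟨P c, hP c⟩ : A)) fun c d h => hPinj (congrArg Subtype.val h)
  simpa using h1

end Cfsg.Agent.ResEven.Base
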