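import Cfsg.Agent.ResEven.Base
import Cfsg.Prelude.Def_EvenType

/-!
# Restricted even type: invariance under isomorphism (helper81)

`isOfEvenType_congr`, `isComponentOf_congr`, `isTerminalPair_congr`, `inducesUnitaryTypeAut_congr`,
`isTwoCentralInvolution_congr`, **`restricted_congr`**.
-/

set_option autoImplicit false

namespace Cfsg.Agent.ResEven.Congr

open Subgroup Cfsg Cfsg.Agent.CTwoTab Cfsg.Agent.ResEven.Base

universe u v

variable {X : Type u} {Y : Type v} [Group X] [Group Y]

theorem isPGroup_of (e : X ≃* Y) {p : ℕ} (h : IsPGroup p X) : IsPGroup p Y := h.of_equiv e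

theorem prankAtLeast_of (e : X ≃* Y) {p k : ℕ} (h : PRankAtLeast p k X) : PRankAtLeast p k Y := rank_congr e h

theorem prankLE_of (e : X ≃* Y) {p k : ℕ} (h : PRankLE p k X) : PRankLE p k Y := by
  intro A hA hp
  have h1 := h (A.map e.symm.toMonoidHom) ?_ ?_
  · rwa [Nat.card_congr (subMap e.symm A).symm.toEquiv] at h1
  · refine ⟨⟨?_⟩⟩
    rintro ⟨_, a, ha, rfl⟩ ⟨_, b, hb, rfl⟩
    apply Subtype.ext
    show e.symm a * e.symm b = e.symm b * e.symm a
    rw [← map_mul, ← map_mul]
    congr 1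
    exact congrArg Subtype.val (hA.is_comm.comm (⟨a, ha⟩ : A) ⟨b, hb⟩)
  · rintro _ ⟨a, ha, rfl⟩
    show e.symm a ^ p = 1
    rw [← map_pow, hp a ha, map_one]

theorem map_symm_map (e : X ≃* Y) (K : Subgroup X) : (K.map e.toMonoidHom).map e.symm.toMonoidHom = K := by
  ext x
  constructor
  · rintro ⟨_, ⟨y, hy, rfl⟩, h⟩
    have : e.symm (e y) = x := h
    rw [e.symm_apply_apply] at this
    rwa [← this]
  · intro hx
    exact ⟨e x, ⟨x, hx, rfl⟩, e.symm_apply_apply x⟩

theorem map_map_symm (e : X ≃* Y) (K : Subgroup Y) : (K.map e.symm.toMonoidHom).map e.toMonoidHom = K :=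
  map_symm_map e.symm K

theorem map_centralizer (e : X ≃* Y) (K : Subgroup X) :
    (centralizer (K : Set X)).map e.toMonoidHom = centralizer ((K.map e.toMonoidHom : Subgroup Y) : Set Y) := by
  ext y
  constructor
  · rintro ⟨x, hx, rfl⟩
    rw [mem_centralizer_iff]
    rintro _ ⟨k, hk, rfl⟩
    show e k * e x = e x * e k
    rw [← map_mul, ← map_mul, mem_centralizer_iff.1 hx k hk]
  · intro hy
    refine ⟨e.symm y, ?_, e.apply_symm_apply y⟩
    rw [SetLike.mem_coe, mem_centralizer_iff]
    intro k hk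
    apply e.injective
    rw [map_mul, map_mul, e.apply_symm_apply]
    exact mem_centralizer_iff.1 hy (e k) ⟨k, hk, rfl⟩

theorem map_normalizer (e : X ≃* Y) (K : Subgroup X) :
    (normalizer (K : Set X)).map e.toMonoidHom = normalizer ((K.map e.toMonoidHom : Subgroup Y) : Set Y) := by
  have key : ∀ x k : X, e k ∈ K.map e.toMonoidHom ↔ k ∈ K := by
    intro x k
    constructor
    · rintro ⟨k', hk', h⟩
      have : k' = k := e.injective h
      rwa [← this]
    · intro hk
      exact ⟨k, hk, rfl⟩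
  have key2 : ∀ x : X, e x ∈ normalizer ((K.map e.toMonoidHom : Subgroup Y) : Set Y) ↔ x ∈ normalizer (K : Set X) := by
    intro x
    rw [mem_normalizer_iff, mem_normalizer_iff]
    constructor
    · intro h k
      have h1 := h (e k)
      rw [key x, ← map_mul, ← map_inv, ← map_mul, key x] at h1
      exact h1
    · intro h y
      obtain ⟨k, rfl⟩ := e.surjective y
      rw [key x, ← map_mul, ← map_inv, ← map_mul, key x]
      exact h k
  ext y
  constructor
  · rintro ⟨x, hx, rfl⟩
    exact (key2 x).2 hx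
  · intro hy
    obtain ⟨x, rfl⟩ := e.surjective y
    exact ⟨x, (key2 x).1 hy, rfl⟩

theorem isComponentOf_of (e : X ≃* Y) {x : X} {K : Subgroup X} (h : IsComponentOf K (centralizer ({x} : Set X))) :
    IsComponentOf (K.map e.toMonoidHom) (centralizer ({e x} : Set Y)) := by
  rw [← map_centralizer_singleton]
  exact isComponentOf_map e h

theorem isTerminalPair_of (e : X ≃* Y) {p : ℕ} {x : X} {K : Subgroup X} (h : IsTerminalPair p x K) :
    IsTerminalPair p (e x) (K.map e.toMonoidHom) := by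
  refine ⟨by rw [MulEquiv.orderOf_eq, h.1], isComponentOf_of e h.2.1, ?_, ?_⟩
  · rw [← Nat.card_congr (subMap e K).toEquiv]
    exact h.2.2.1
  · intro y hy ho
    obtain ⟨y, rfl⟩ := e.surjective y
    rw [← map_centralizer] at hy
    obtain ⟨y', hy', h2⟩ := hy
    have h3 : y' = y := e.injective h2
    rw [h3] at hy'
    exact isComponentOf_of e (h.2.2.2 y hy' (by rw [← MulEquiv.orderOf_eq e, ho]))

theorem isTwoCentralInvolution_of (e : X ≃* Y) {x : X} (h : IsTwoCentralInvolution x) :
    IsTwoCentralInvolution (e x) := by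
  obtain ⟨h1, P, hP, hc⟩ := h
  have hmax : ∀ Q : Subgroup Y, IsPGroup 2 Q → (P : Subgroup X).map e.toMonoidHom ≤ Q →
      Q = (P : Subgroup X).map e.toMonoidHom := by
    intro Q hQ hle
    have h2 : IsPGroup 2 ↥(Q.map e.symm.toMonoidHom) := hQ.map _
    have h3 : (P : Subgroup X) ≤ Q.map e.symm.toMonoidHom := by
      intro x hx
      exact ⟨e x, hle ⟨x, hx, rfl⟩, e.symm_apply_apply x⟩
    have h4 := P.is_maximal' h2 h3
    rw [← h4, map_map_symm]
  refine ⟨by rw [MulEquiv.orderOf_eq, h1],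
    ⟨(P : Subgroup X).map e.toMonoidHom, P.isPGroup'.map _, fun hQ hle => hmax _ hQ hle⟩, ⟨x, hP, rfl⟩, ?_⟩
  rintro _ ⟨y, hy, rfl⟩
  show e y * e x = e x * e y
  rw [← map_mul, ← map_mul, hc y hy]

theorem lpAll_of (e : X ≃* Y) (h : LpAll 2 X (InC 2)) : LpAll 2 Y (InC 2) := by
  intro y hy K hK
  obtain ⟨x, rfl⟩ := e.surjective y
  have hx : orderOf x = 2 := by rw [← MulEquiv.orderOf_eq e, hy]
  let f : ↥(centralizer ({x} : Set X)) ≃* ↥(centralizer ({e x} : Set Y)) :=
    (subMap e (centralizer ({x} : Set X))).trans (MulEquiv.subgroupCongr (map_centralizer_singleton e x))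
  let g : ↥(centralizer ({x} : Set X)) ⧸ pPrimeCore 2 ↥(centralizer ({x} : Set X)) ≃*
      ↥(centralizer ({e x} : Set Y)) ⧸ pPrimeCore 2 ↥(centralizer ({e x} : Set Y)) :=
    haveI := Lib.Cores.pPrimeCore_normal (G := ↥(centralizer ({x} : Set X))) 2
    haveI := Lib.Cores.pPrimeCore_normal (G := ↥(centralizer ({e x} : Set Y))) 2
    QuotientGroup.congr _ _ f (map_pPrimeCore 2 f)
  have hK' : IsComponent (K.map g.symm.toMonoidHom) :=
    SignalizersComponents.Components.isComponent_map_equiv g.symm hK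
  have h1 := h x hx _ hK'
  have e1 : ↥(K.map g.symm.toMonoidHom) ≃* ↥K := (subMap g.symm K).symm
  refine ⟨hK.2, ?_, ?_, ?_⟩
  · exact h1.2.1.of_equiv (centerEquiv e1)
  · exact isCpSimple_two_congr (quoEquiv e1) h1.2.2.1
  · exact fun h' => h1.2.2.2 (isCpException_two_congr e1.symm h')

theorem isOfEvenType_of (e : X ≃* Y) (h : IsOfEvenType X) : IsOfEvenType Y := by
  refine ⟨lpAll_of e h.1, ?_, prankAtLeast_of e h.2.2⟩
  intro y hy
  obtain ⟨x, rfl⟩ := e.surjective y
  exact core_bot_map e (h.2.1 x (by rw [← MulEquiv.orderOf_eq e, hy]))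

theorem inducesUnitaryTypeAut_of (e : X ≃* Y) {K : Subgroup X} {y : X} (h : InducesUnitaryTypeAut K y) :
    InducesUnitaryTypeAut (K.map e.toMonoidHom) (e y) := by
  obtain ⟨hy, β, hβ, F, i1, i2, hF, ⟨f⟩⟩ := h
  have hy' : ∀ k : Y, k ∈ K.map e.toMonoidHom → e y * k * (e y)⁻¹ ∈ K.map e.toMonoidHom := by
    rintro _ ⟨k, hk, rfl⟩
    exact ⟨y * k * y⁻¹, hy k hk, by
      show e (y * k * y⁻¹) = e y * e k * (e y)⁻¹
      rw [map_mul, map_mul, map_inv]⟩
  let q : ↥K ⧸ center ↥K ≃* ↥(K.map e.toMonoidHom) ⧸ center ↥(K.map e.toMonoidHom) := quoEquiv (subMap e K)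
  have hq : ∀ k : ↥K, q (QuotientGroup.mk k) = QuotientGroup.mk (subMap e K k) := fun _ => rfl
  refine ⟨hy', (q.symm.trans β).trans q, ?_, F, i1, i2, hF, ?_⟩
  · intro k
    obtain ⟨k, rfl⟩ := (subMap e K).surjective k
    have h1 : q.symm (QuotientGroup.mk (subMap e K k)) = QuotientGroup.mk k := by
      rw [← hq, MulEquiv.symm_apply_apply]
    show q (β (q.symm (QuotientGroup.mk (subMap e K k)))) = _
    rw [h1, hβ, hq]
    congr 1
    apply Subtype.ext
    show e (y * k * y⁻¹) = e y * e k * (e y)⁻¹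
    rw [map_mul, map_mul, map_inv]
  · have g : ↥(fixedSubgroup ((q.symm.trans β).trans q)) ≃* ↥(fixedSubgroup β) :=
      { toFun := fun a => ⟨q.symm a, by
          have h1 : q (β (q.symm (a : _))) = (a : _) := a.2
          show β (q.symm (a : _)) = q.symm (a : _)
          rw [← MulEquiv.eq_symm_apply] at h1
          exact h1⟩
        invFun := fun b => ⟨q b, by
          have h1 : β (b : _) = (b : _) := b.2
          show q (β (q.symm (q (b : _)))) = q (b : _)
          rw [MulEquiv.symm_apply_apply, h1]⟩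
        left_inv := fun a => Subtype.ext (MulEquiv.apply_symm_apply q _)
        right_inv := fun b => Subtype.ext (MulEquiv.symm_apply_apply q _)
        map_mul' := fun a b => Subtype.ext (map_mul q.symm _ _) }
    exact ⟨g.trans f⟩

theorem restricted_of (e : X ≃* Y) (h : IsOfRestrictedEvenType X) : IsOfRestrictedEvenType Y := by
  obtain ⟨h1, h2, h3, h4⟩ := h
  have hs : ∀ K : Subgroup Y, (K.map e.symm.toMonoidHom).map e.toMonoidHom = K := map_map_symm e
  refine ⟨isOfEvenType_of e h1, ?_, ?_, ?_⟩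
  · intro y K hy hK F _ _ hF hKF
    obtain ⟨f⟩ := hKF
    have h5 := isComponentOf_of e.symm hK
    obtain ⟨h6, h7⟩ := h2 (e.symm y) _ (by rw [MulEquiv.orderOf_eq, hy]) h5 F hF ⟨(subMap e.symm K).symm.trans f⟩
    exact ⟨h6, prankAtLeast_of e h7⟩
  · intro y K hT F _ _ hF hKF
    obtain ⟨f⟩ := hKF
    obtain ⟨h5, h6, h7⟩ := h3 (e.symm y) _ (isTerminalPair_of e.symm hT) F hF ⟨(subMap e.symm K).symm.trans f⟩
    refine ⟨?_, fun h => h6 (isTwoCentralInvolution_of e.symm h), ?_⟩
    · have e1 : ↥(centralizer ({e.symm y} : Set X)) ≃* ↥(centralizer ({y} : Set Y)) :=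
        (subMap e _).trans (MulEquiv.subgroupCongr (by rw [map_centralizer_singleton, e.apply_symm_apply]))
      exact prankAtLeast_of e1 h5
    · rcases h7 with ⟨h8, h9⟩ | ⟨h8, h9, h10⟩
      · refine Or.inl ⟨h8, fun T => ?_⟩
        -- the Sylow subgroup
        have e2 : ↥(normalizer ((K.map e.symm.toMonoidHom : Subgroup X) : Set X)) ≃* ↥(normalizer (K : Set Y)) :=
          (subMap e _).trans (MulEquiv.subgroupCongr (by rw [map_normalizer, hs]))
        have hmax : ∀ Q : Subgroup ↥(normalizer ((K.map e.symm.toMonoidHom : Subgroup X) : Set X)), IsPGroup 2 Q →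
            (T : Subgroup ↥(normalizer (K : Set Y))).map e2.symm.toMonoidHom ≤ Q →
            Q = (T : Subgroup ↥(normalizer (K : Set Y))).map e2.symm.toMonoidHom := by
          intro Q hQ hle
          have h11 : IsPGroup 2 ↥(Q.map e2.toMonoidHom) := hQ.map _
          have h12 : (T : Subgroup _) ≤ Q.map e2.toMonoidHom := by
            intro x hx
            exact ⟨e2.symm x, hle ⟨x, hx, rfl⟩, e2.apply_symm_apply x⟩
          have h13 := T.is_maximal' h11 h12
          rw [← h13, map_symm_map]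
        let T' : Sylow 2 ↥(normalizer ((K.map e.symm.toMonoidHom : Subgroup X) : Set X)) :=
          ⟨(T : Subgroup _).map e2.symm.toMonoidHom, T.isPGroup'.map _, fun hQ hle => hmax _ hQ hle⟩
        obtain ⟨h14, h15⟩ := h9 T'
        have e3 : ↥T.toSubgroup ≃* ↥T'.toSubgroup := subMap e2.symm T.toSubgroup
        refine ⟨⟨?_, ?_⟩, ?_⟩
        · refine ⟨⟨fun a b => e3.injective ?_⟩⟩
          rw [map_mul, map_mul]
          exact h14.1.is_comm.comm _ _
        · intro x hx
          have h16 := h14.2 (e2.symm x) ⟨x, hx, rfl⟩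
          rw [← map_pow] at h16
          exact (map_eq_one_iff _ e2.symm.injective).1 h16
        · exact (Nat.card_congr e3.toEquiv).trans h15
      · refine Or.inr ⟨h8, ?_, ?_⟩
        · have e1 : ↥(centralizer ((K.map e.symm.toMonoidHom : Subgroup X) : Set X)) ≃* ↥(centralizer (K : Set Y)) :=
            (subMap e _).trans (MulEquiv.subgroupCongr (by rw [map_centralizer, hs]))
          exact prankLE_of e1 h9
        · have e1 : ↥(centralizer ((K.map e.symm.toMonoidHom : Subgroup X) : Set X)) ≃* ↥(centralizer (K : Set Y)) :=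
            (subMap e _).trans (MulEquiv.subgroupCongr (by rw [map_centralizer, hs]))
          exact prankAtLeast_of e1 h10
  · intro x y K hy hxy hT hK hz hc hu
    have e1 := subMap e.symm K
    have h5 := h4 (e.symm x) (e.symm y) _ (by rw [MulEquiv.orderOf_eq, hy]) (by rw [← map_mul, ← map_mul, hxy])
      (isTerminalPair_of e.symm hT) ?_ ?_ ?_ (inducesUnitaryTypeAut_of e.symm hu)
    · have h6 : (normalizer ((K.map e.symm.toMonoidHom : Subgroup X) : Set X)).index =
          (normalizer (K : Set Y)).index := by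
        have h7 : (normalizer (K : Set Y)) = (normalizer ((K.map e.symm.toMonoidHom : Subgroup X) : Set X)).map
            e.toMonoidHom := by rw [map_normalizer, hs]
        rw [h7]
        exact (Subgroup.index_map_equiv _ e).symm
      rwa [h6] at h5
    · obtain ⟨F, i1, i2, hF, ⟨f⟩⟩ := hK
      exact ⟨F, i1, i2, hF, ⟨(quoEquiv e1).symm.trans f⟩⟩
    · intro z hz'
      have h6 := hz (e1.symm z) (centerEquiv e1.symm ⟨z, hz'⟩).2
      rw [← map_pow] at h6
      exact (map_eq_one_iff _ e1.symm.injective).1 h6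
    · rw [← Nat.card_congr (centerEquiv e1).toEquiv]
      exact hc

theorem restricted_congr (e : X ≃* Y) : IsOfRestrictedEvenType X ↔ IsOfRestrictedEvenType Y :=
  ⟨restricted_of e, restricted_of e.symm⟩

end Cfsg.Agent.ResEven.Congr
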